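import Cfsg.Agent.EqLemmas

/-!
# Groups with every subgroup normal (owner: helper76)

* `q8_of_not_commute`: noncommuting `p`-elements force `p = 2` and a quaternion pair
* `exists_quaternion_pair`, `structure_of_pair`
-/

open scoped commutatorElement

namespace Cfsg.Agent.Hamiltonian

variable {G : Type*} [Group G]

/-- `(y x)ⁿ` when `x y = d y x` with `d` commuting with both. -/
theorem mul_pow_eq {x y d : G} (h : x * y = d * y * x) (hx : Commute d x) (hy : Commute d y) :
    ∀ n : ℕ, (y * x) ^ n = d ^ n.choose 2 * y ^ n * x ^ n := by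
  have hn : ∀ n : ℕ, x ^ n * y = d ^ n * y * x ^ n := by
    intro n
    induction n with
    | zero => simp
    | succ n ih =>
      calc x ^ (n + 1) * y = x ^ n * (x * y) := by rw [pow_succ, mul_assoc]
        _ = x ^ n * (d * y * x) := by rw [h]
        _ = (x ^ n * d) * y * x := by group
        _ = d * (x ^ n * y) * x := by rw [((hx.pow_right n).eq).symm]; group
        _ = d ^ (n + 1) * y * x ^ (n + 1) := by rw [ih, pow_succ' d, pow_succ x]; group
  intro n
  induction n with
  | zero => simp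
  | succ n ih =>
    have hC : (n + 1).choose 2 = n.choose 2 + n := by
      rw [Nat.choose_succ_succ, Nat.choose_one_right, add_comm]
    calc (y * x) ^ (n + 1) = d ^ n.choose 2 * y ^ n * x ^ n * (y * x) := by rw [pow_succ, ih]
      _ = d ^ n.choose 2 * y ^ n * (x ^ n * y) * x := by group
      _ = d ^ n.choose 2 * (y ^ n * d ^ n) * y * x ^ n * x := by rw [hn]; group
      _ = d ^ n.choose 2 * d ^ n * (y ^ n * y) * (x ^ n * x) := by rw [((hy.pow_pow n n).eq).symm]; group
      _ = d ^ (n + 1).choose 2 * y ^ (n + 1) * x ^ (n + 1) := by rw [hC, pow_add d, ← pow_succ, ← pow_succ]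

variable (hH : ∀ H : Subgroup G, H.Normal)

include hH

theorem conj_mem_zpowers (g x : G) : g * x * g⁻¹ ∈ Subgroup.zpowers x :=
  (hH _).conj_mem x (Subgroup.mem_zpowers x) g

theorem comm_mem_left (x y : G) : ⁅x, y⁆ ∈ Subgroup.zpowers x := by
  have h1 := conj_mem_zpowers hH y x⁻¹
  rw [Subgroup.zpowers_inv] at h1
  have := mul_mem (Subgroup.mem_zpowers x) h1
  simpa [commutatorElement_def, mul_assoc] using this

theorem comm_mem_right (x y : G) : ⁅x, y⁆ ∈ Subgroup.zpowers y := by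
  have := mul_mem (conj_mem_zpowers hH x y) (inv_mem (Subgroup.mem_zpowers y))
  simpa [commutatorElement_def] using this

variable [Finite G]

/-- Noncommuting `p`-elements give a quaternion pair. -/
theorem q8_of_not_commute {p : ℕ} [hp : Fact p.Prime] {a b : G} (ha : ∃ k, orderOf a = p ^ k)
    (hb : ∃ k, orderOf b = p ^ k) (hab : ¬ Commute a b) :
    p = 2 ∧ ∃ x y : G, orderOf x = 4 ∧ y * y = x * x ∧ y * x * y⁻¹ = x⁻¹ := by
  classical
  have hex : ∃ N, ∃ x y : G, (∃ k, orderOf x = p ^ k) ∧ (∃ k, orderOf y = p ^ k) ∧ ¬ Commute x y ∧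
      orderOf x + orderOf y = N := ⟨_, a, b, ha, hb, hab, rfl⟩
  obtain ⟨x, y, hxp, hyp, hxy, hN⟩ := Nat.find_spec hex
  have hsmall : ∀ u v : G, (∃ k, orderOf u = p ^ k) → (∃ k, orderOf v = p ^ k) →
      orderOf u + orderOf v < orderOf x + orderOf y → Commute u v := by
    intro u v hu hv hlt
    by_contra h
    exact Nat.find_min hex (hN ▸ hlt) ⟨u, v, hu, hv, h, rfl⟩
  -- the larger order first
  wlog hle : orderOf y ≤ orderOf x generalizing x y
  · refine this y x hyp hxp (fun h => hxy h.symm) ?_ (fun u v hu hv hlt => hsmall u v hu hv (by omega)) (by omega)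
    omega
  set c := ⁅x, y⁆ with hc
  have hcx : c ∈ Subgroup.zpowers x := comm_mem_left hH x y
  have hcy : c ∈ Subgroup.zpowers y := comm_mem_right hH x y
  have hc1 : c ≠ 1 := fun h => hxy (commutatorElement_eq_one_iff_mul_comm.mp h)
  have hCx : Commute c x := by
    obtain ⟨k, hk⟩ := Subgroup.mem_zpowers_iff.mp hcx
    rw [← hk]; exact (Commute.refl x).zpow_left k
  have hCy : Commute c y := by
    obtain ⟨k, hk⟩ := Subgroup.mem_zpowers_iff.mp hcy
    rw [← hk]; exact (Commute.refl y).zpow_left k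
  have hrel : x * y = c * y * x := by rw [hc, commutatorElement_def]; group
  obtain ⟨i', hi⟩ := hxp
  obtain ⟨j', hj⟩ := hyp
  obtain ⟨i, rfl⟩ : ∃ i, i' = i + 1 := by
    refine ⟨i' - 1, (Nat.sub_add_cancel ?_).symm⟩
    by_contra h0
    rw [show i' = 0 by omega, pow_zero, orderOf_eq_one_iff] at hi
    exact hxy (hi ▸ Commute.one_left y)
  obtain ⟨j, rfl⟩ : ∃ j, j' = j + 1 := by
    refine ⟨j' - 1, (Nat.sub_add_cancel ?_).symm⟩
    by_contra h0
    rw [show j' = 0 by omega, pow_zero, orderOf_eq_one_iff] at hj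
    exact hxy (hj ▸ Commute.one_right x)
  have hij : j ≤ i := by
    rw [hi, hj] at hle
    have := (Nat.pow_le_pow_iff_right hp.out.one_lt).mp hle
    omega
  -- `c` has order `p`
  have hconj : ∀ n : ℕ, x ^ n * y * (x ^ n)⁻¹ = c ^ n * y := by
    intro n
    induction n with
    | zero => simp
    | succ n ih =>
      calc x ^ (n + 1) * y * (x ^ (n + 1))⁻¹ = x * (x ^ n * y * (x ^ n)⁻¹) * x⁻¹ := by
            rw [pow_succ']; group
        _ = (x * c ^ n) * y * x⁻¹ := by rw [ih]; group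
        _ = c ^ n * (x * y) * x⁻¹ := by rw [((hCx.pow_left n).eq).symm]; group
        _ = c ^ (n + 1) * y := by rw [hrel, pow_succ]; group
  have hcp : c ^ p = 1 := by
    have hcom : Commute (x ^ p) y := by
      refine hsmall (x ^ p) y ⟨i, ?_⟩ ⟨_, hj⟩ ?_
      · rw [orderOf_pow' x hp.out.ne_zero, hi, Nat.gcd_eq_right (dvd_pow_self p (Nat.succ_ne_zero i)),
          pow_succ, Nat.mul_div_cancel _ hp.out.pos]
      · rw [orderOf_pow' x hp.out.ne_zero, hi, Nat.gcd_eq_right (dvd_pow_self p (Nat.succ_ne_zero i)),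
          pow_succ, Nat.mul_div_cancel _ hp.out.pos]
        exact Nat.add_lt_add_right (lt_mul_of_one_lt_right (pow_pos hp.out.pos i) hp.out.one_lt) _
    have h1 := hconj p
    rw [hcom.eq, mul_inv_cancel_right] at h1
    exact (mul_eq_right.mp h1.symm)
  have hco : orderOf c = p := orderOf_eq_prime hcp hc1
  have hlow : ∀ (z : G) (k : ℕ), orderOf z = p ^ (k + 1) → c ∈ Subgroup.zpowers z →
      Subgroup.zpowers (z ^ p ^ k) = Subgroup.zpowers c := by
    intro z k hz hcz
    have ho : orderOf (z ^ p ^ k) = p := by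
      rw [orderOf_pow' z (pow_ne_zero k hp.out.ne_zero), hz,
        Nat.gcd_eq_right (pow_dvd_pow p (Nat.le_succ k)), pow_succ', Nat.mul_div_cancel _ (pow_pos hp.out.pos k)]
    have hle' : Subgroup.zpowers c ≤ Subgroup.zpowers (z ^ p ^ k) := by
      obtain ⟨m, hm⟩ := (mem_powers_iff_mem_zpowers (x := z) (y := c)).mpr hcz
      simp only at hm
      have hd : p ^ (k + 1) ∣ m * p := by
        rw [← hz, orderOf_dvd_iff_pow_eq_one, pow_mul, hm, hcp]
      obtain ⟨t, rfl⟩ : p ^ k ∣ m := Nat.dvd_of_mul_dvd_mul_right hp.out.pos (by rwa [← pow_succ])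
      rw [Subgroup.zpowers_le, ← hm, pow_mul]
      exact Subgroup.pow_mem _ (Subgroup.mem_zpowers _) t
    exact (Subgroup.eq_of_le_of_card_ge hle' (by rw [Nat.card_zpowers, Nat.card_zpowers, ho, hco])).symm
  have hzx := hlow x i hi hcx
  have hzy := hlow y j hj hcy
  obtain ⟨t, ht⟩ : ∃ t : ℕ, (x ^ p ^ i) ^ t = y ^ p ^ j := by
    have : y ^ p ^ j ∈ Subgroup.zpowers (x ^ p ^ i) := hzx ▸ hzy ▸ Subgroup.mem_zpowers _
    obtain ⟨t, ht⟩ := mem_powers_iff_mem_zpowers.mpr this
    exact ⟨t, ht⟩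
  set s := t * p ^ (i - j) with hs
  have hys : y ^ p ^ j = x ^ (s * p ^ j) := by
    rw [← ht, ← pow_mul, hs, mul_assoc, ← pow_add, Nat.sub_add_cancel hij, mul_comm]
  by_cases hbad : p ∣ (p ^ j).choose 2 * s
  · -- a smaller counterexample
    exfalso
    set x' := (x ^ s)⁻¹ with hx'
    set d := (c ^ s)⁻¹
    have hd : x' * y = d * y * x' := by
      have h1 := hconj s
      have h2 : (x ^ s)⁻¹ * y = (c ^ s)⁻¹ * y * (x ^ s)⁻¹ := by
        calc (x ^ s)⁻¹ * y = (c ^ s)⁻¹ * ((x ^ s)⁻¹ * (c ^ s * y)) := by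
              have := ((hCx.pow_pow s s).inv_right).eq
              rw [← mul_assoc (x ^ s)⁻¹, ← this]; group
          _ = _ := by rw [← h1]; group
      exact h2
    have hdx : Commute d x' := (hCx.pow_pow s s).inv_inv
    have hdy : Commute d y := (hCy.pow_left s).inv_left
    have hpow : (y * x') ^ p ^ j = 1 := by
      rw [mul_pow_eq hd hdx hdy, hx', inv_pow (x ^ s), ← pow_mul x, ← hys, mul_inv_cancel_right, inv_pow, ← pow_mul,
        inv_eq_one]
      obtain ⟨r, hr⟩ := hbad
      rw [mul_comm] at hr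
      rw [hr, pow_mul, hcp, one_pow]
    have hlt : orderOf (y * x') < orderOf y := by
      refine lt_of_le_of_lt (Nat.le_of_dvd (pow_pos hp.out.pos j) (orderOf_dvd_of_pow_eq_one hpow)) ?_
      rw [hj]; exact Nat.pow_lt_pow_right hp.out.one_lt (Nat.lt_succ_self j)
    obtain ⟨k, -, hk⟩ := (Nat.dvd_prime_pow hp.out).mp (orderOf_dvd_of_pow_eq_one hpow)
    have h3 : Commute x (y * x') := hsmall x (y * x') ⟨_, hi⟩ ⟨k, hk⟩ (by omega)
    refine hxy ?_
    have h4 := h3.mul_right ((Commute.refl x).pow_right s)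
    rwa [hx', inv_mul_cancel_right] at h4
  -- the remaining case
  have hp2 : p = 2 ∧ j = 1 ∧ i = 1 := by
    have hj0 : j ≠ 0 := by
      rintro rfl
      have : y ^ 1 ∈ Subgroup.zpowers x := by
        rw [show (1 : ℕ) = p ^ 0 from rfl, ← ht]
        exact Subgroup.pow_mem _ (Subgroup.pow_mem _ (Subgroup.mem_zpowers x) _) _
      rw [pow_one] at this
      obtain ⟨k, hk⟩ := Subgroup.mem_zpowers_iff.mp this
      exact hxy (hk ▸ (Commute.refl x).zpow_right k)
    by_cases hp2 : p = 2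
    · refine ⟨hp2, ?_⟩
      subst hp2
      have hj1 : j = 1 := by
        by_contra hne
        refine hbad (Dvd.dvd.mul_right (hp.out.dvd_choose_pow two_ne_zero ?_) s)
        intro h
        exact hne ((Nat.pow_eq_self_iff (le_refl 2)).mp h.symm)
      refine ⟨hj1, ?_⟩
      by_contra hne
      refine hbad (Dvd.dvd.mul_left ?_ _)
      exact Dvd.dvd.mul_left (dvd_pow_self 2 (by omega)) t
    · exfalso
      refine hbad (Dvd.dvd.mul_right (hp.out.dvd_choose_pow two_ne_zero ?_) s)
      intro h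
      have : p ∣ 2 := h ▸ dvd_pow_self p hj0
      exact hp2 ((Nat.prime_dvd_prime_iff_eq hp.out Nat.prime_two).mp this)
  obtain ⟨rfl, rfl, rfl⟩ := hp2
  refine ⟨rfl, x, y, hi, ?_, ?_⟩
  · have h2 : ∀ z : G, orderOf z = 2 ^ (1 + 1) → c ∈ Subgroup.zpowers z → z * z = c := by
      intro z hz hcz
      have h := hlow z 1 hz hcz
      rw [pow_one] at h
      have hm : z ^ 2 ∈ Subgroup.zpowers c := h ▸ Subgroup.mem_zpowers _
      obtain ⟨k, hk⟩ := Subgroup.mem_zpowers_iff.mp hm
      rcases Int.even_or_odd k with ⟨m, rfl⟩ | ⟨m, rfl⟩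
      · exfalso
        rw [← two_mul, zpow_mul, zpow_two, ← sq, show c ^ 2 = 1 from hcp, one_zpow] at hk
        have : z ^ 2 = 1 := hk.symm
        have := Nat.le_of_dvd two_pos (orderOf_dvd_of_pow_eq_one this)
        rw [hz] at this; norm_num at this
      · rw [zpow_add, zpow_mul, zpow_two, ← sq, show c ^ 2 = 1 from hcp, one_zpow, one_mul, zpow_one] at hk
        rw [← sq, hk]
    rw [h2 x hi hcx, h2 y hj hcy]
  · have h : x * x = c := by
      have h := hlow x 1 hi hcx
      rw [pow_one] at h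
      have hm : c ∈ Subgroup.zpowers (x ^ 2) := h ▸ Subgroup.mem_zpowers c
      obtain ⟨k, hk⟩ := Subgroup.mem_zpowers_iff.mp hm
      have h4 : (x ^ 2) ^ 2 = 1 := by rw [← pow_mul, show 2 * 2 = 2 ^ (1 + 1) from rfl, ← hi, pow_orderOf_eq_one]
      rcases Int.even_or_odd k with ⟨m, rfl⟩ | ⟨m, rfl⟩
      · exfalso
        rw [← two_mul, zpow_mul, zpow_two, ← sq, h4, one_zpow] at hk
        exact hc1 hk.symm
      · rw [zpow_add, zpow_mul, zpow_two, ← sq, h4, one_zpow, one_mul, zpow_one] at hk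
        rw [← sq, hk]
    calc y * x * y⁻¹ = c⁻¹ * (c * y * x) * y⁻¹ := by group
      _ = c⁻¹ * x := by rw [← hrel]; group
      _ = x⁻¹ := by rw [← h]; group

end Cfsg.Agent.Hamiltonian
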